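import Cfsg.Agent.Lib.Comp.P43x.Main
import Cfsg.Agent.Lib.MatB.Fam
import Cfsg.Agent.S0280

set_option maxRecDepth 100000
set_option Elab.async false

namespace Cfsg.Lib.Comp.P43u

open Cfsg.Lib.MatB Matrix P43x

universe u

def mT0 : List ℕ := [nat_lit 0x1, nat_lit 0x40, nat_lit 0x1000, nat_lit 0x40000, nat_lit 0x1000000, nat_lit 0x40000000, nat_lit 0x1000000000, nat_lit 0x40000000000]
def mT1 : List ℕ := [nat_lit 0x1, nat_lit 0x40, nat_lit 0x40000, nat_lit 0x1000, nat_lit 0x1000000, nat_lit 0x40000000, nat_lit 0x40000000000, nat_lit 0x1000000000]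
def mT2 : List ℕ := [nat_lit 0x1, nat_lit 0x40, nat_lit 0x40000040000, nat_lit 0x1000000000, nat_lit 0x1000000, nat_lit 0x40000000, nat_lit 0x40000, nat_lit 0x1000001000]
def mT3 : List ℕ := [nat_lit 0x41040, nat_lit 0x41001, nat_lit 0x40041, nat_lit 0x1041, nat_lit 0x41040000000, nat_lit 0x41001000000, nat_lit 0x40041000000, nat_lit 0x1041000000]
def mT4 : List ℕ := [nat_lit 0x41000041040, nat_lit 0x41000041001, nat_lit 0x41040000, nat_lit 0x41001000, nat_lit 0x40041000, nat_lit 0x1041000, nat_lit 0x40041000041, nat_lit 0x1041000041]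
def mT5 : List ℕ := [nat_lit 0x40000040, nat_lit 0x1000000, nat_lit 0x1000, nat_lit 0x40000, nat_lit 0x40, nat_lit 0x1000001, nat_lit 0x1000000000, nat_lit 0x40000000000]
def mT6 : List ℕ := [nat_lit 0x1001040040, nat_lit 0x40001000001, nat_lit 0x1001041040, nat_lit 0x40040041000, nat_lit 0x41041001001, nat_lit 0x40000040001, nat_lit 0x40041001001, nat_lit 0x1040040040]
def mT7 : List ℕ := [nat_lit 0x40001000, nat_lit 0x1041001000, nat_lit 0x41001000000, nat_lit 0x1041000, nat_lit 0x1040000040, nat_lit 0x41001041, nat_lit 0x41001041001, nat_lit 0x41001000001]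
def mT8 : List ℕ := [nat_lit 0x1040040040, nat_lit 0x1041000041, nat_lit 0x1001, nat_lit 0x41040001000, nat_lit 0x41000001040, nat_lit 0x1000001041, nat_lit 0x1001000000, nat_lit 0x40040041040]
def mT9 : List ℕ := [nat_lit 0x40000001000, nat_lit 0x1040041001, nat_lit 0x40041001041, nat_lit 0x1041001041, nat_lit 0x41000040000, nat_lit 0x40041001040, nat_lit 0x41000040041, nat_lit 0x1041]
def mT10 : List ℕ := [nat_lit 0x1041000, nat_lit 0x1041041040, nat_lit 0x41041000000, nat_lit 0x1040000001, nat_lit 0x41001000001, nat_lit 0x40001001041, nat_lit 0x41041041041, nat_lit 0x1041001040]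
def mT11 : List ℕ := [nat_lit 0x1000041041, nat_lit 0x41040041040, nat_lit 0x41001041000, nat_lit 0x1040001000, nat_lit 0x40041001000, nat_lit 0x41040, nat_lit 0x1041001, nat_lit 0x40001040]
def mT12 : List ℕ := [nat_lit 0x41040040040, nat_lit 0x41040000001, nat_lit 0x41000041001, nat_lit 0x40000000040, nat_lit 0x1000041040, nat_lit 0x41041041040, nat_lit 0x1041000, nat_lit 0x40040040000]
def mT13 : List ℕ := [nat_lit 0x40001001001, nat_lit 0x41041000, nat_lit 0x1000041041, nat_lit 0x1001000041, nat_lit 0x41000040001, nat_lit 0x41041000041, nat_lit 0x40041001000, nat_lit 0x1040001001]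
def mT14 : List ℕ := [nat_lit 0x1040041040, nat_lit 0x40041000001, nat_lit 0x1041000, nat_lit 0x41000041000, nat_lit 0x40000001040, nat_lit 0x40040040041, nat_lit 0x41001000001, nat_lit 0x41000]
def mT15 : List ℕ := [nat_lit 0x40040040041, nat_lit 0x40001040, nat_lit 0x41001040000, nat_lit 0x40040040040, nat_lit 0x1040040, nat_lit 0x1000000040, nat_lit 0x1001041001, nat_lit 0x40040]
def mT16 : List ℕ := [nat_lit 0x1000041000, nat_lit 0x41000000041, nat_lit 0x41040001001, nat_lit 0x1040001001, nat_lit 0x40000001000, nat_lit 0x41041041000, nat_lit 0x40041041040, nat_lit 0x41001040]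
def mT17 : List ℕ := [nat_lit 0x40001, nat_lit 0x41000001041, nat_lit 0x1041040001, nat_lit 0x1000001041, nat_lit 0x40001000000, nat_lit 0x40041041000, nat_lit 0x41040001041, nat_lit 0x41001000]
def mT18 : List ℕ := [nat_lit 0x41040001040, nat_lit 0x1040041001, nat_lit 0x1000040, nat_lit 0x1040000000, nat_lit 0x40000041040, nat_lit 0x40041001040, nat_lit 0x41000001, nat_lit 0x1040001040]
def mT19 : List ℕ := [nat_lit 0x41000041000, nat_lit 0x1041040000, nat_lit 0x40040041041, nat_lit 0x1041041041, nat_lit 0x41000, nat_lit 0x41041001041, nat_lit 0x1001040040, nat_lit 0x40000001041]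
def mT20 : List ℕ := [nat_lit 0x1040040001, nat_lit 0x41041000040, nat_lit 0x1041040040, nat_lit 0x1040001, nat_lit 0x41041001040, nat_lit 0x41001041041, nat_lit 0x41001001041, nat_lit 0x40000000001]
def mT21 : List ℕ := [nat_lit 0x41001041000, nat_lit 0x1040001000, nat_lit 0x40041000040, nat_lit 0x40040000040, nat_lit 0x1041001, nat_lit 0x40001040, nat_lit 0x40001040041, nat_lit 0x40000040040]
def mT22 : List ℕ := [nat_lit 0x40001041, nat_lit 0x1000000000, nat_lit 0x41001000001, nat_lit 0x41040000040, nat_lit 0x1001000040, nat_lit 0x1000001000, nat_lit 0x41000041001, nat_lit 0x41000041040]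
def mT23 : List ℕ := [nat_lit 0x1040041041, nat_lit 0x40000001000, nat_lit 0x41001041001, nat_lit 0x1040040, nat_lit 0x40001001040, nat_lit 0x41000040000, nat_lit 0x41001, nat_lit 0x40041000001]
def mT24 : List ℕ := [nat_lit 0x41041041001, nat_lit 0x41041001, nat_lit 0x40000040, nat_lit 0x1000040001, nat_lit 0x40041041, nat_lit 0x41040000041, nat_lit 0x40, nat_lit 0x41001001000]
def mT25 : List ℕ := [nat_lit 0x41040040001, nat_lit 0x1040041000, nat_lit 0x40041000041, nat_lit 0x1040040, nat_lit 0x1041041040, nat_lit 0x40040001040, nat_lit 0x40000040041, nat_lit 0x40041000001]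

def mtabs : List (List ℕ) := [mT0, mT1, mT2, mT3, mT4, mT5, mT6, mT7, mT8, mT9, mT10, mT11, mT12, mT13, mT14, mT15, mT16, mT17, mT18, mT19, mT20, mT21, mT22, mT23, mT24, mT25]

noncomputable def mtab : ℕ → List ℕ := nth mT0 mtabs

def mrd (v : ℕ) : ℕ := Nat.land v (nat_lit 0x41041041041)

theorem mctx : Ctx 6 2 4 8 (QuadraticAlgebra.omega : K4) (@Fin.val 4) mrd :=
  ⟨by decide +kernel, by decide +kernel, by decide +kernel, Or.inl rfl, by decide +kernel, by norm_num, by norm_num,
    fun v => (congrArg (Nat.land v) (by decide +kernel : nat_lit 0x41041041041 = rep 6 8)).trans (land_rep (by norm_num) 8 v)⟩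

theorem mok : ∀ x, TabOK 6 4 8 (QuadraticAlgebra.omega : K4) mrd (mtab x) := tabOK_nth (by decide +kernel)

noncomputable abbrev mM (x : ℕ) : Matrix (Fin 4) (Fin 4) K4 := tm 6 4 (QuadraticAlgebra.omega : K4) (@Fin.val 4) (mtab x)

noncomputable def mR : List (List ℕ × ℕ) := apd R (L.map fun x => ([x, iv x], 0))

theorem mside : SideOK iv R mR L := by decide +kernel

theorem mrel : relB 6 4 mrd mtab [0] mR = true := by decide +kernel

theorem mdet : detB 6 4 mrd mtab [(1, 6, 7, 8, 9), (2, 10, 11, 12, 13), (3, 14, 15, 16, 17), (4, 18, 19, 20, 21), (5, 22, 23, 24, 25)] = true := by decide +kernel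

theorem muni : ∀ x ∈ L, (mM x)ᵀ * (mM x).map (· ^ 2) = 1 := by decide +kernel

theorem iso {F : Type u} [Field F] [Fintype F] (hF : Fintype.card F = 4) :
    Nonempty (cl (gp nets) L ≃* PSU 4 F 2) := by
  obtain ⟨φ⟩ := hom4 hF
  obtain ⟨σ, hσ⟩ := exists_frob φ (p := 2) (by norm_num) (by decide +kernel)
  have := simple
  have := nets_ok.finite L
  refine bridge_proj nets_iv nets_rel ord card mside φ φ.injective _ (su_inj 4 2)
    (M := mM) (fun x hx => su_mem φ hσ (mctx.det mok mdet x hx) (muni x hx)) (by decide +kernel) (mctx.rel mok mrel)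
    (x := 1) (y := 2) (by decide) (by decide) (i := 2) (j := 2) (by decide +kernel) ?_
  have h := Cfsg.Agent.S0280.result (q := 2) hF 4 (by norm_num)
  change Nat.card (PSU 4 F 2) = _
  norm_num [Finset.prod_range_succ, Fin.prod_univ_succ] at h
  omega

end Cfsg.Lib.Comp.P43u
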